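import Groth.Agent.AlgGrp1.ImageHom
import Groth.Agent.AlgGrp1.AffineQuot
import Groth.Agent.AlgGrp1.AffineCrit
import Groth.Agent.AlgGrp1.MonoHom
import Groth.Agent.GrpschAbsch.FibreTranslate
import Groth.Agent.GrpschAbsch.NeutralSet
import Groth.Agent.AlgGrp1.OpenSub
import Groth.Agent.URad.Unip

/-!
Affine groups map trivially to proper groups; flatness of surjective homomorphisms onto reduced groups; the smooth
neutral preimage over a perfect field.
-/

set_option autoImplicit false
set_option linter.style.haveILetI false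
universe u

open CategoryTheory CategoryTheory.Limits MonoidalCategory CartesianMonoidalCategory MonObj GrpObj AlgebraicGeometry
open Groth.AlgGrp1

namespace Groth.SemiAb

variable {k : Type u} [Field k]

local notation "Sch" => Over (Spec (CommRingCat.of k))

/-- A homomorphism from a smooth connected affine group to a proper group is trivial. -/
theorem eq_one_of_affine_to_proper {N A : Sch} [GrpObj N] [GrpObj A] [IsAffine N.left] [Smooth N.hom]
    [ConnectedSpace N.left] [IsProper A.hom] (u : N ⟶ A) [IsMonHom u] : u = 1 := by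
  haveI : QuasiCompact N.hom := inferInstance
  obtain ⟨K, _, c, g, hc, hcc, hg, hlft, hqc, hfl, hsur, rfl⟩ := exists_image_hom u
  haveI := hc; haveI := hcc; haveI := hg; haveI := hlft; haveI := hqc; haveI := hfl; haveI := hsur
  haveI : IsProper K.hom := by rw [← Over.w c]; infer_instance
  haveI := isAffine_of_quotient g
  haveI := smooth_of_flat_surjective_hom g
  haveI := connectedSpace_of_surjective g
  haveI := geometricallyReduced_of_smooth_hom K
  haveI : AlgebraicGeometry.IsReduced K.left := isReduced_left K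
  haveI : IsFinite K.hom := IsFinite.iff_isProper_and_isAffineHom.2 ⟨inferInstance, inferInstance⟩
  haveI : DiscreteTopology K.left := by
    have h := (K.hom.isDiscrete_preimage_singleton (default : Spec (CommRingCat.of k)))
    rw [show K.hom.base ⁻¹' {default} = Set.univ from Set.eq_univ_of_forall fun z => Subsingleton.elim (α := ↥(Spec (CommRingCat.of k))) _ _] at h
    exact isDiscrete_univ_iff.1 h
  haveI : Subsingleton K.left := PreconnectedSpace.trivial_of_discrete
  haveI : IsClosedImmersion η[K].left := isClosedImmersion_of_comp_eq_id K.hom η[K].left (Over.w η[K])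
  haveI : Surjective η[K].left := ⟨fun x => ⟨IsLocalRing.closedPoint k, Subsingleton.elim _ x⟩⟩
  haveI : IsIso η[K].left := isIso_of_isClosedImmersion_of_surjective η[K].left
  haveI : IsIso ((Over.forget _).map η[K]) := inferInstanceAs (IsIso η[K].left)
  haveI : IsIso η[K] := isIso_of_reflects_iso η[K] (Over.forget _)
  have hg1 : g = 1 := by
    rw [← cancel_mono (inv η[K]), Hom.one_def, Category.assoc]
    exact toUnit_unique _ _
  rw [hg1, MonObj.one_comp]

/-- A surjective homomorphism onto a reduced group is flat. -/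
theorem flat_of_surjective {H G : Sch} [GrpObj H] [GrpObj G] [LocallyOfFiniteType H.hom] [QuasiCompact H.hom]
    [LocallyOfFiniteType G.hom] [QuasiCompact G.hom] [AlgebraicGeometry.IsReduced G.left]
    (f : H ⟶ G) [IsMonHom f] [Surjective f.left] : Flat f.left := by
  obtain ⟨K, _, c, g, hc, hcc, hg, hlft, hqc, hfl, hsur, rfl⟩ := exists_image_hom f
  haveI := hcc; haveI := hfl
  haveI : Surjective (g.left ≫ c.left) := ‹Surjective (g ≫ c).left›
  haveI : Surjective c.left := Surjective.of_comp g.left c.left
  haveI : IsIso c.left := isIso_of_isClosedImmersion_of_surjective c.left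
  exact inferInstanceAs (Flat (g.left ≫ c.left))

/-- Over a perfect field, a smooth connected closed subgroup of the target lifts to a smooth connected closed
subgroup of the source mapping onto it. -/
theorem exists_preimage [PerfectField k] {G H V : Sch} [GrpObj G] [GrpObj H] [GrpObj V]
    [LocallyOfFiniteType G.hom] [QuasiCompact G.hom] [LocallyOfFiniteType H.hom]
    (f : G ⟶ H) [IsMonHom f] [Surjective f.left] [Smooth V.hom] [QuasiCompact V.hom] [ConnectedSpace V.left]
    (j : V ⟶ H) [IsMonHom j] [IsClosedImmersion j.left] :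
    ∃ (U : Sch) (_ : GrpObj U) (i : U ⟶ G) (g : U ⟶ V), IsMonHom i ∧ IsClosedImmersion i.left ∧ Smooth U.hom ∧
      QuasiCompact U.hom ∧ ConnectedSpace U.left ∧ IsMonHom g ∧ Surjective g.left ∧ g ≫ j = i ≫ f := by
  have : Mono j := Over.mono_of_mono_left j
  let P := pullback f j
  let p : P ⟶ G := pullback.fst f j
  let d : P ⟶ V := pullback.snd f j
  have sq : IsPullback p.left d.left f.left j.left := (IsPullback.of_hasPullback f j).map (Over.forget _)
  haveI : IsClosedImmersion p.left := MorphismProperty.of_isPullback sq.flip ‹IsClosedImmersion j.left›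
  haveI : Surjective d.left := MorphismProperty.of_isPullback sq ‹Surjective f.left›
  haveI : Mono p := Over.mono_of_mono_left p
  obtain ⟨_, hp⟩ := Groth.Agf.exists_grpObj_of_subgroup p (fun T x => ∃ z : T ⟶ V, x ≫ f = z ≫ j)
    (fun T x => ⟨fun ⟨e, he⟩ => ⟨e ≫ d, by rw [← he, Category.assoc, Category.assoc, pullback.condition]⟩,
      fun ⟨z, hz⟩ => ⟨pullback.lift x z hz, pullback.lift_fst _ _ _⟩⟩)
    (fun T => ⟨1, by rw [MonObj.one_comp, MonObj.one_comp]⟩)
    (fun T a b ⟨z, hz⟩ ⟨z', hz'⟩ => ⟨z * z', by rw [MonObj.mul_comp, MonObj.mul_comp, hz, hz']⟩)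
    (fun T a ⟨z, hz⟩ => ⟨z⁻¹, by rw [GrpObj.inv_comp, GrpObj.inv_comp, hz]⟩)
  haveI := hp
  haveI : IsMonHom d := by
    have : IsMonHom (d ≫ j) := by
      rw [show d ≫ j = p ≫ f from pullback.condition.symm]
      exact inferInstanceAs (IsMonHom (_ ≫ _))
    exact Groth.URad.isMonHom_of_comp_mono d j
  haveI : LocallyOfFiniteType P.hom := by rw [← Over.w p]; infer_instance
  haveI : QuasiCompact P.hom := by rw [← Over.w p]; infer_instance
  -- the reduced subgroup
  obtain ⟨Z, c, hcc, hcs, hred⟩ := exists_reduced P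
  haveI := hcc; haveI := hcs; haveI := hred
  haveI : LocallyOfFiniteType Z.hom := by rw [← Over.w c]; infer_instance
  haveI := Groth.GrpschAbsch.FibreTranslate.geometricallyReduced_of_perfectField Z
  haveI : AlgebraicGeometry.IsReduced (Z ⊗ Z).left := isReduced_tensorObj Z Z
  haveI : AlgebraicGeometry.IsReduced (𝟙_ Sch).left := inferInstanceAs (IsReduced (Spec (CommRingCat.of k)))
  haveI : Mono c := Over.mono_of_mono_left c
  have hfac : ∀ {T : Sch} [AlgebraicGeometry.IsReduced T.left] (q : T ⟶ P), ∃ z : T ⟶ Z, z ≫ c = q :=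
    fun q => exists_factor_of_range_subset c q (by rw [c.left.surjective.range_eq]; exact Set.subset_univ _)
  obtain ⟨o, ho⟩ := hfac (1 : 𝟙_ _ ⟶ P)
  obtain ⟨m, hm⟩ := hfac ((fst Z Z ≫ c) * (snd Z Z ≫ c))
  obtain ⟨v, hv⟩ := hfac (c ≫ ι[P])
  obtain ⟨_, hc⟩ := Groth.Agf.exists_grpObj_of_subgroup c (fun T g => ∃ z : T ⟶ Z, z ≫ c = g) (fun _ _ => Iff.rfl)
    (fun T => ⟨toUnit T ≫ o, by rw [Category.assoc, ho, MonObj.comp_one]⟩)
    (fun T a b ⟨x, hx⟩ ⟨y, hy⟩ => ⟨lift x y ≫ m, by
      rw [Category.assoc, hm, MonObj.comp_mul, lift_fst_assoc, lift_snd_assoc, hx, hy]⟩)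
    (fun T a ⟨x, hx⟩ => ⟨x ≫ v, by rw [Category.assoc, hv, ← hx, Hom.inv_def, Category.assoc]⟩)
  haveI := hc
  haveI : QuasiCompact Z.hom := by rw [← Over.w c]; infer_instance
  haveI : IsMonHom (c ≫ d) := inferInstanceAs (IsMonHom (_ ≫ _))
  haveI : Surjective (c ≫ d).left := inferInstanceAs (Surjective (c.left ≫ d.left))
  haveI : AlgebraicGeometry.IsReduced V.left := by
    haveI := geometricallyReduced_of_smooth_hom V
    exact isReduced_left V
  haveI : Flat (c ≫ d).left := flat_of_surjective (c ≫ d)
  -- its neutral component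
  obtain ⟨U, _, e, he, heo, -, hUc⟩ := Groth.GrpschAbsch.NeutralSet.exists_neutral_openSubgroup Z
  haveI := he; haveI := heo; haveI := hUc
  haveI : IsClosedImmersion e.left := IsClosedImmersion.of_isPreimmersion _ (isClosed_range_of_openSubgroup e)
  haveI : LocallyOfFiniteType U.hom := by rw [← Over.w e]; infer_instance
  haveI : QuasiCompact U.hom := by rw [← Over.w e]; infer_instance
  haveI : AlgebraicGeometry.IsReduced U.left := isReduced_of_isOpenImmersion e.left
  haveI := Groth.GrpschAbsch.FibreTranslate.geometricallyReduced_of_perfectField U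
  haveI := Groth.GrpschAbsch.smooth_of_geometricallyReduced U
  let i : U ⟶ G := e ≫ c ≫ p
  let g : U ⟶ V := e ≫ c ≫ d
  haveI : IsMonHom g := inferInstanceAs (IsMonHom (_ ≫ _))
  haveI : IsClosedImmersion i.left := inferInstanceAs (IsClosedImmersion (e.left ≫ c.left ≫ p.left))
  haveI : Flat g.left := inferInstanceAs (Flat (e.left ≫ (c ≫ d).left))
  haveI := lfp_left g
  haveI : Surjective g.left := ⟨Set.range_eq_univ.1 (IsClopen.eq_univ
    ⟨isClosed_range_hom g, g.left.isOpenMap.isOpen_range⟩ (Set.range_nonempty _))⟩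
  refine ⟨U, inferInstance, i, g, inferInstanceAs (IsMonHom (_ ≫ _)), inferInstance, inferInstance, inferInstance,
    hUc, inferInstance, inferInstance, ?_⟩
  simp only [g, i, Category.assoc, P, p, d, pullback.condition]

end Groth.SemiAb
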