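import Groth.Agent.AlgGrp1.TorusSplit
import Groth.Agent.AlgGrp1.TorusField
import Groth.Agent.AlgGrp1.AffineKernelBC
import Groth.Agent.EtaleBase.FpqcDescent
import Groth.Agent.AlgSp2.SmoothDescent
import Groth.Agent.Reductive.RedRankSplit
import Groth.Agent.BTExact.FinrankComp
import Groth.Agent.S9777

/-!
# Multiplication by an integer on a torus

`[n]` on a torus of dimension `t` over a field is finite locally free of rank `n ^ t`.
-/

set_option autoImplicit false
set_option linter.style.haveILetI false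
universe u

open CategoryTheory CategoryTheory.Limits MonoidalCategory CartesianMonoidalCategory MonObj GrpObj AlgebraicGeometry
open Groth.AlgGrp1

noncomputable section

namespace Groth.SemiAb

section Ring

/-- The group algebra of `N` is free over that of a subgroup with finite index. -/
theorem exists_rank_mapDomain {k : Type u} [Field k] {M N : Type} [CommGroup M] [CommGroup N] {I : Type}
    [Fintype I] (f : M →* N) (s : I → N) (hb : Function.Bijective fun p : I × M => f p.2 * s p.1) :
    IsFinite (Spec.map (CommRingCat.ofHom (MonoidAlgebra.mapDomainRingHom k f))) ∧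
    Flat (Spec.map (CommRingCat.ofHom (MonoidAlgebra.mapDomainRingHom k f))) ∧
    ∀ y, Scheme.Hom.finrank (Spec.map (CommRingCat.ofHom (MonoidAlgebra.mapDomainRingHom k f))) y =
      Fintype.card I := by
  classical
  letI : Algebra (MonoidAlgebra k M) (MonoidAlgebra k N) := (MonoidAlgebra.mapDomainRingHom k f).toAlgebra
  let Φ : (I →₀ MonoidAlgebra k M) →ₗ[MonoidAlgebra k M] MonoidAlgebra k N :=
    Finsupp.linearCombination _ fun i => MonoidAlgebra.single (s i) 1
  let E : (I × M) ≃ N := Equiv.ofBijective _ hb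
  let Ψ : (I →₀ MonoidAlgebra k M) ≃+ MonoidAlgebra k N :=
    ((Finsupp.mapRange.addEquiv (MonoidAlgebra.coeffAddEquiv)).trans
      (Finsupp.curryAddEquiv.symm.trans (Finsupp.domCongr E))).trans MonoidAlgebra.coeffAddEquiv.symm
  have hΦΨ : ∀ z, Φ z = Ψ z := by
    intro z
    induction z using Finsupp.induction_linear with
    | zero => simp
    | add a b ha hb => rw [map_add, map_add, ha, hb]
    | single i a =>
      induction a using MonoidAlgebra.induction_linear with
      | zero => simp
      | add a b ha hb => rw [Finsupp.single_add, map_add, map_add, ha, hb]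
      | single m c =>
        simp [Φ, Ψ, E, Algebra.smul_def, RingHom.algebraMap_toAlgebra]
  have hbij : Function.Bijective Φ := by
    rw [show ⇑Φ = ⇑Ψ from funext hΦΨ]
    exact Ψ.bijective
  let b : Module.Basis I (MonoidAlgebra k M) (MonoidAlgebra k N) :=
    Module.Basis.ofRepr (LinearEquiv.ofBijective Φ hbij).symm
  haveI : Module.Free (MonoidAlgebra k M) (MonoidAlgebra k N) := Module.Free.of_basis b
  haveI : Module.Finite (MonoidAlgebra k M) (MonoidAlgebra k N) := Module.Finite.of_basis b
  refine ⟨(IsFinite.SpecMap_iff _).2 ‹_›, Flat.SpecMap_iff.2 ?_, fun y => ?_⟩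
  · exact RingHom.flat_algebraMap_iff.2 (inferInstance : Module.Flat (MonoidAlgebra k M) (MonoidAlgebra k N))
  · refine (Scheme.Hom.finrank_SpecMap_algebraMap (MonoidAlgebra k M) (MonoidAlgebra k N) y).trans ?_
    rw [Module.rankAtStalk_eq_finrank_of_free]
    exact Module.finrank_eq_card_basis b

theorem bijective_pow_mul (r n : ℕ) (hn : 0 < n) :
    Function.Bijective fun p : (Fin r → Fin n) × Multiplicative (Fin r → ℤ) =>
      powMonoidHom n p.2 * Multiplicative.ofAdd (fun j => ((p.1 j : ℕ) : ℤ)) := by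
  have hn' : (0 : ℤ) < n := by exact_mod_cast hn
  refine ⟨fun p q h => ?_, fun v => ?_⟩
  · have h' : ∀ j, (n : ℤ) * p.2.toAdd j + (p.1 j : ℕ) = (n : ℤ) * q.2.toAdd j + (q.1 j : ℕ) := fun j => by
      have := congrFun (congrArg Multiplicative.toAdd h) j
      simpa using this
    have h1 : p.1 = q.1 := funext fun j => Fin.ext (by
      have := congrArg (· % (n : ℤ)) (h' j)
      simp only [Int.mul_add_emod_self_left] at this
      rw [Int.emod_eq_of_lt (by omega) (by have := (p.1 j).2; omega),
        Int.emod_eq_of_lt (by omega) (by have := (q.1 j).2; omega)] at this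
      omega)
    refine Prod.ext h1 (Multiplicative.toAdd.injective (funext fun j => ?_))
    have := h' j
    rw [h1] at this
    nlinarith
  · refine ⟨⟨fun j => ⟨(v.toAdd j % n).toNat, ?_⟩, Multiplicative.ofAdd fun j => v.toAdd j / n⟩, ?_⟩
    · have := Int.emod_lt_of_pos (v.toAdd j) hn'
      omega
    · refine Multiplicative.toAdd.injective (funext fun j => ?_)
      have := Int.emod_nonneg (v.toAdd j) hn'.ne'
      have := Int.mul_ediv_add_emod (v.toAdd j) n
      simp
      omega

end Ring

section Split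

variable {k : Type u} [Field k]

/-- The `n`-th power on a diagonalisable group is induced by `m ↦ n m`. -/
theorem pow_id_eq_pt (r n : ℕ) :
    (𝟙 (CoactBr.sp k (MonoidAlgebra k (Multiplicative (Fin r → ℤ))))) ^ n =
      CoactBr.pt (MonoidAlgebra.mapDomainAlgHom k k (powMonoidHom n : Multiplicative (Fin r → ℤ) →* _)) := by
  let U : Multiplicative (Fin r → ℤ) →* (MonoidAlgebra k (Multiplicative (Fin r → ℤ)))ˣ := (MonoidAlgebra.of k _).toHomUnits
  let ρ : (Multiplicative (Fin r → ℤ) →* (MonoidAlgebra k (Multiplicative (Fin r → ℤ)))ˣ) → (CoactBr.sp k (MonoidAlgebra k (Multiplicative (Fin r → ℤ))) ⟶ CoactBr.sp k (MonoidAlgebra k (Multiplicative (Fin r → ℤ)))) := fun ψ =>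
    CoactBr.pt (MonoidAlgebra.lift k (MonoidAlgebra k (Multiplicative (Fin r → ℤ))) (Multiplicative (Fin r → ℤ)) ((Units.coeHom (MonoidAlgebra k (Multiplicative (Fin r → ℤ)))).comp ψ))
  have hρ1 : ρ 1 = 1 := by
    simp only [ρ, CoactBr.one_eq_pt]
    congr 1
    refine MonoidAlgebra.algHom_ext (fun m => ?_) (Subsingleton.elim _ _)
    simp [Algebra.ofId_apply, MonoidAlgebra.one_def]
  have hρmul : ∀ ψ ψ', ρ (ψ * ψ') = ρ ψ * ρ ψ' := fun ψ ψ' => by
    simp only [ρ, CoactBr.pt_mul_pt]
    congr 1
    refine MonoidAlgebra.algHom_ext (fun m => ?_) (Subsingleton.elim _ _)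
    simp
  have hρn : ∀ m : ℕ, ρ (U.comp (powMonoidHom m)) = ρ U ^ m := fun m => by
    induction m with
    | zero =>
      rw [pow_zero, ← hρ1]
      congr 1
      refine MonoidHom.ext fun v => ?_
      simp
    | succ m ih =>
      rw [pow_succ, ← ih, ← hρmul]
      congr 1
      refine MonoidHom.ext fun v => ?_
      simp [pow_succ]
  have hU : ρ U = 𝟙 _ := by
    have : MonoidAlgebra.lift k (MonoidAlgebra k (Multiplicative (Fin r → ℤ))) (Multiplicative (Fin r → ℤ)) ((Units.coeHom (MonoidAlgebra k (Multiplicative (Fin r → ℤ)))).comp U) = AlgHom.id k (MonoidAlgebra k (Multiplicative (Fin r → ℤ))) :=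
      MonoidAlgebra.algHom_ext (fun m => by simp [U, MonoidAlgebra.of_apply]) (Subsingleton.elim _ _)
    simp only [ρ, this]
    ext1
    exact Spec.map_id _
  rw [← hU, ← hρn]
  simp only [ρ]
  congr 1
  refine MonoidAlgebra.algHom_ext (fun m => ?_) (Subsingleton.elim _ _)
  simp [U, MonoidAlgebra.of_apply]

theorem pow_diag (r n : ℕ) (hn : 0 < n) :
    IsFinite ((𝟙 (CoactBr.sp k (MonoidAlgebra k (Multiplicative (Fin r → ℤ))))) ^ n).left ∧
    Flat ((𝟙 (CoactBr.sp k (MonoidAlgebra k (Multiplicative (Fin r → ℤ))))) ^ n).left ∧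
    ∀ y, Scheme.Hom.finrank ((𝟙 (CoactBr.sp k (MonoidAlgebra k (Multiplicative (Fin r → ℤ))))) ^ n).left y = n ^ r := by
  rw [pow_id_eq_pt]
  obtain ⟨h1, h2, h3⟩ := exists_rank_mapDomain (k := k) (powMonoidHom n : Multiplicative (Fin r → ℤ) →* _) (fun c : Fin r → Fin n => Multiplicative.ofAdd fun j => ((c j : ℕ) : ℤ)) (bijective_pow_mul r n hn)
  exact ⟨h1, h2, fun y => (h3 y).trans (by simp)⟩

end Split

variable {k : Type u} [Field k]

theorem dim_bc {K : Type u} [Field K] (f : Spec (CommRingCat.of K) ⟶ Spec (CommRingCat.of k))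
    (E : Over (Spec (CommRingCat.of k))) [LocallyOfFiniteType E.hom] [QuasiCompact E.hom] :
    topologicalKrullDim (Red.bc f E).left = topologicalKrullDim E.left := by
  have hall : ∀ {X Y : Scheme.{u}} (g : X ⟶ Y) (y : Y), Subsingleton Y →
      topologicalKrullDim ↑(g.fiber y) = topologicalKrullDim X := fun g y _ => by
    have h1 : g ⁻¹' {y} = Set.univ := Set.eq_univ_of_forall fun x => Subsingleton.elim _ _
    exact IsHomeomorph.topologicalKrullDim_eq _
      ((g.fiberHomeo y).trans ((Homeomorph.setCongr h1).trans (Homeomorph.Set.univ _))).isHomeomorph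
  have h := Groth.Agent.S9777.result E.hom f (pullback.snd E.hom f) (pullback.fst E.hom f)
    (IsPullback.of_hasPullback _ _) (IsLocalRing.closedPoint K)
  exact ((hall (pullback.snd E.hom f) _ inferInstance).symm.trans h).trans (hall E.hom _ inferInstance)

theorem pow_comp_hom {S : Scheme.{u}} {G H T : Over S} [GrpObj G] [GrpObj H] (f : G ⟶ H) [IsMonHom f]
    (x : T ⟶ G) (n : ℕ) : (x ^ n) ≫ f = (x ≫ f) ^ n := by
  induction n with
  | zero => rw [pow_zero, pow_zero, MonObj.one_comp]
  | succ n ih => rw [pow_succ, pow_succ, MonObj.mul_comp, ih]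

/-- **Multiplication by `n` on a torus of dimension `t`.** -/
theorem isogeny_pow_torus {T : Over (Spec (CommRingCat.of k))} [GrpObj T] [LocallyOfFiniteType T.hom]
    [QuasiCompact T.hom] (hT : Red.IsTorus T) {t : ℕ} (ht : topologicalKrullDim ↥T.left = t) {n : ℕ}
    (hn : 0 < n) :
    IsFinite ((𝟙 T) ^ n).left ∧ Flat ((𝟙 T) ^ n).left ∧ Surjective ((𝟙 T) ^ n).left ∧
      ∀ y, Scheme.Hom.finrank ((𝟙 T) ^ n).left y = n ^ t := by
  let φ := Spec.map (CommRingCat.ofHom (algebraMap k (AlgebraicClosure k)))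
  haveI : Surjective φ := ⟨fun x => ⟨IsLocalRing.closedPoint (AlgebraicClosure k),
    Subsingleton.elim (α := ↥(Spec (CommRingCat.of k))) _ _⟩⟩
  haveI : Flat φ := inferInstance
  haveI : QuasiCompact φ := inferInstance
  obtain ⟨r, e, he⟩ := exists_diag_iso_of_isTorus (isTorus_bc φ hT)
  haveI := he
  haveI : IsIso e.hom.left := inferInstanceAs (IsIso ((Over.forget _).map e.hom))
  haveI : IsIso e.inv.left := inferInstanceAs (IsIso ((Over.forget _).map e.inv))
  have hrt : r = t := by
    have h1 := dim_bc φ T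
    rw [ht] at h1
    have h2 : topologicalKrullDim (PrimeSpectrum (MonoidAlgebra (AlgebraicClosure k) (Multiplicative (Fin r → ℤ)))) =
        topologicalKrullDim (Red.bc φ T).left :=
      IsHomeomorph.topologicalKrullDim_eq _ e.hom.left.homeomorph.isHomeomorph
    rw [h1, PrimeSpectrum.topologicalKrullDim_eq_ringKrullDim,
      Groth.Reductive.RedRank.ringKrullDim_groupAlgebra] at h2
    exact_mod_cast h2
  subst hrt
  obtain ⟨hf, hfl, hfr⟩ := pow_diag (k := AlgebraicClosure k) r n hn
  have hsq := isPullback_bc_map φ ((𝟙 T) ^ n)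
  have hbc : ((Over.pullback φ).map ((𝟙 T) ^ n)).left =
      e.inv.left ≫ ((𝟙 (CoactBr.sp (AlgebraicClosure k) (MonoidAlgebra (AlgebraicClosure k) (Multiplicative (Fin r → ℤ))))) ^ n).left ≫ e.hom.left := by
    have h1 : (Over.pullback φ).map ((𝟙 T) ^ n) = (𝟙 (Red.bc φ T) : _ ⟶ _) ^ n := by
      rw [← Functor.homMonoidHom_apply, map_pow, Functor.homMonoidHom_apply, CategoryTheory.Functor.map_id]
    rw [h1, ← Over.comp_left, ← Over.comp_left]
    congr 1
    rw [pow_comp_hom e.hom (𝟙 _) n, Category.id_comp, MonObj.comp_pow, e.inv_hom_id]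
  have h1 : IsFinite ((Over.pullback φ).map ((𝟙 T) ^ n)).left := by rw [hbc]; infer_instance
  have h2 : Flat ((Over.pullback φ).map ((𝟙 T) ^ n)).left := by rw [hbc]; infer_instance
  haveI : Surjective (pullback.fst T.hom φ) := inferInstance
  haveI : Flat (pullback.fst T.hom φ) := inferInstance
  haveI : QuasiCompact (pullback.fst T.hom φ) := inferInstance
  have hfin : IsFinite ((𝟙 T) ^ n).left :=
    MorphismProperty.of_isPullback_of_descendsAlong (P := @IsFinite) (Q := Groth.EtaleBase.Fpqc)
      hsq.flip ⟨⟨inferInstance, inferInstance⟩, inferInstance⟩ h1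
  have hflat : Flat ((𝟙 T) ^ n).left :=
    MorphismProperty.of_isPullback_of_descendsAlong (P := @Flat) (Q := Groth.EtaleBase.Fpqc)
      hsq.flip ⟨⟨inferInstance, inferInstance⟩, inferInstance⟩ h2
  haveI := hfin; haveI := hflat
  have hrank : ∀ y, Scheme.Hom.finrank ((𝟙 T) ^ n).left y = n ^ r := fun y => by
    obtain ⟨z, rfl⟩ := (pullback.fst T.hom φ).surjective y
    rw [← Scheme.Hom.finrank_of_isPullback _ _ _ _ hsq z]
    simp only [hbc, Scheme.Hom.finrank_comp_left_of_isIso]
    haveI := hf; haveI := hfl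
    rw [Groth.BTExact.finrank_comp_right_of_isIso]
    exact hfr _
  exact ⟨hfin, hflat, (Scheme.Hom.one_le_finrank_iff_surjective _).1 (fun y => by
    rw [Pi.one_apply, hrank]; exact Nat.one_le_pow _ _ hn), hrank⟩

end Groth.SemiAb
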