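import Groth.Agent.S14595
import Groth.Agent.S4114
import Groth.Agent.AlgGrpAb.Basic
import Groth.Agent.SemiAb.AffineProper
import Groth.Agent.SemiAb.TorusPow
import Groth.Agent.AlgGrp1.Geom
import Groth.Agent.URad.Unip

/-!
Isogenies onto semi-abelian varieties: commutativity, the power map through an isogeny, finiteness.
-/

set_option autoImplicit false
set_option linter.style.haveILetI false
set_option maxHeartbeats 1000000
universe u

open CategoryTheory CategoryTheory.Limits MonoidalCategory CartesianMonoidalCategory MonObj GrpObj AlgebraicGeometry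
open Groth.AlgGrp1

namespace Groth.SemiAb

variable {k : Type u} [Field k]

local notation "Sch" => Over (Spec (CommRingCat.of k))

/-- A semi-abelian variety is commutative. -/
theorem isCommMonObj_of_ext {H T A : Sch} [GrpObj H] [GrpObj T] [GrpObj A] [LocallyOfFiniteType H.hom]
    [QuasiCompact H.hom] [GeometricallyIntegral H.hom] [IsProper A.hom] [Smooth A.hom] [ConnectedSpace A.left]
    (i : T ⟶ H) [IsMonHom i] [IsClosedImmersion i.left] (hT : Red.IsTorus T)
    (q : H ⟶ A) [IsMonHom q] [Surjective q.left] [Flat q.left] (hk : AlgGrp.IsKernel i q) :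
    IsCommMonObj H := by
  haveI := isSeparated_grpObj H
  let C : H ⊗ H ⟶ H := fst H H * snd H H * (fst H H)⁻¹ * (snd H H)⁻¹
  have hC : ∀ {U : Sch} (a b : U ⟶ H), lift a b ≫ C = a * b * a⁻¹ * b⁻¹ := fun a b => by
    simp only [C, MonObj.comp_mul, GrpObj.comp_inv, lift_fst, lift_snd]
  have hη : toUnit H ≫ η[H] = (1 : H ⟶ H) := rfl
  have h := Groth.Agent.S14595.main i hT q hk η[H] η[H] C
  rw [hC, hC, hC, hη, show (η[H] : 𝟙_ Sch ⟶ H) = 1 from MonObj.one_eq_one H] at h
  simp only [_root_.mul_one, _root_.one_mul, inv_one, mul_inv_cancel, MonObj.comp_one] at h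
  rw [isCommMonObj_iff_isMulCommutative]
  refine fun U => ⟨⟨fun a b => ?_⟩⟩
  have h' := congrArg (lift a b ≫ ·) h
  simp only [hC, MonObj.comp_one] at h'
  rwa [mul_inv_eq_one, mul_inv_eq_iff_eq_mul] at h'

/-- A smooth connected group with a finite kernel to a commutative group is commutative. -/
theorem isCommMonObj_of_finite_kernel {G H N : Sch} [GrpObj G] [GrpObj H] [IsCommMonObj H] [GrpObj N]
    [Smooth G.hom] [QuasiCompact G.hom] [ConnectedSpace G.left]
    (f : G ⟶ H) [IsMonHom f] (n : N ⟶ G) [IsMonHom n] [Mono n] [IsFinite N.hom] (hker : AlgGrp.IsKernel n f) :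
    IsCommMonObj G := by
  haveI : LocallyOfFiniteType G.hom := inferInstance
  haveI := geometricallyReduced_of_smooth_hom G
  haveI : GeometricallyIntegral G.hom := geometricallyIntegral_of_smooth G
  haveI : AlgebraicGeometry.IsReduced G.left := isReduced_left G
  let c : G ⊗ G ⟶ G := fst G G * snd G G * (fst G G)⁻¹ * (snd G G)⁻¹
  obtain ⟨z, hz⟩ := IsKernel.exists_lift hker c (by
    simp only [c, MonObj.mul_comp, GrpObj.inv_comp]
    rw [_root_.mul_comm (fst G G ≫ f) (snd G G ≫ f), mul_inv_cancel_right, mul_inv_cancel])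
  haveI : AlgebraicGeometry.IsReduced (G ⊗ G).left := isReduced_tensorObj G G
  haveI : ConnectedSpace (G ⊗ G).left := by
    haveI := geometricallyConnected_of_point G.hom η[G].left (Over.w η[G])
    haveI : UniversallyOpen G.hom := inferInstance
    exact inferInstanceAs (ConnectedSpace ↥(Limits.pullback G.hom G.hom))
  haveI : DiscreteTopology N.left := by
    have h := (N.hom.isDiscrete_preimage_singleton (default : Spec (CommRingCat.of k)))
    rw [show N.hom.base ⁻¹' {default} = Set.univ from Set.eq_univ_of_forall fun z => Subsingleton.elim (α := ↥(Spec (CommRingCat.of k))) _ _] at h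
    exact isDiscrete_univ_iff.1 h
  haveI : IsClosedImmersion η[N].left := isClosedImmersion_of_comp_eq_id N.hom η[N].left (Over.w η[N])
  let o := (η[G ⊗ G]).left.base (IsLocalRing.closedPoint k)
  have hc1 : η[G ⊗ G] ≫ c = 1 := by
    simp only [c, MonObj.comp_mul, GrpObj.comp_inv]
    rw [_root_.mul_assoc, _root_.mul_assoc]
    simp [← MonObj.one_eq_one]
  have hz1 : η[G ⊗ G] ≫ z = η[N] := by
    rw [← cancel_mono n, Category.assoc, hz, hc1, IsMonHom.one_hom, ← MonObj.one_eq_one]
  have hrange : Set.range z.left.base ⊆ Set.range η[N].left.base := by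
    rintro _ ⟨w, rfl⟩
    refine ⟨IsLocalRing.closedPoint k, ?_⟩
    have h2 := (isPreconnected_univ.image z.left.base z.left.continuous.continuousOn).subsingleton
      (Set.mem_image_of_mem _ (Set.mem_univ o)) (Set.mem_image_of_mem _ (Set.mem_univ w))
    refine Eq.trans ?_ h2
    rw [← hz1]
    rfl
  obtain ⟨w, hw⟩ := exists_factor_of_range_subset η[N] z hrange
  have hc : c = 1 := by
    rw [← hz, ← hw, toUnit_unique w (toUnit _), ← Hom.one_def, MonObj.one_comp]
  rw [isCommMonObj_iff_isMulCommutative]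
  refine fun U => ⟨⟨fun a b => ?_⟩⟩
  have h' := congrArg (lift a b ≫ ·) hc
  simp only [c, MonObj.comp_mul, GrpObj.comp_inv, lift_fst, lift_snd, MonObj.comp_one] at h'
  rwa [mul_inv_eq_one, mul_inv_eq_iff_eq_mul] at h'

/-- A finite group scheme over a field is killed by its order. -/
theorem exists_pow_eq_one_of_isFinite (N : Sch) [GrpObj N] [IsFinite N.hom] :
    ∃ d : ℕ, 0 < d ∧ (𝟙 N : N ⟶ N) ^ d = 1 := by
  have hNd : ∀ y, N.hom.finrank y = N.hom.finrank (IsLocalRing.closedPoint k) := fun y =>
    congrArg N.hom.finrank (Subsingleton.elim (α := ↥(Spec (CommRingCat.of k))) _ _)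
  haveI : Surjective N.hom := ⟨fun y => ⟨η[N].left.base y, Subsingleton.elim (α := ↥(Spec (CommRingCat.of k))) _ _⟩⟩
  exact ⟨_, (Scheme.Hom.one_le_finrank_iff_surjective N.hom).2 ‹_› _,
    Groth.Agent.S4114.pow_finrank_eq_one_field k N _ hNd⟩

/-- An integer killing the kernel of a cover factors through it. -/
theorem exists_pow_desc {P T N : Sch} [GrpObj P] [IsCommMonObj P] [GrpObj T] [GrpObj N]
    (g : P ⟶ T) [IsMonHom g] (hgc : IsCover g) (j : N ⟶ P) [IsMonHom j] (hj : AlgGrp.IsKernel j g) (d : ℕ)
    (hN : (𝟙 N : N ⟶ N) ^ d = 1) :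
    ∃ ψ : T ⟶ P, IsMonHom ψ ∧ g ≫ ψ = (𝟙 P) ^ d ∧ ψ ≫ g = (𝟙 T) ^ d := by
  obtain ⟨ψ, hψ⟩ := hgc.exists_desc ((𝟙 P) ^ d) (fun U a b hab => by
    rw [MonObj.comp_pow, MonObj.comp_pow, Category.comp_id, Category.comp_id]
    obtain ⟨z, hz⟩ := IsKernel.exists_lift hj (a * b⁻¹) (by
      rw [MonObj.mul_comp, GrpObj.inv_comp, hab, mul_inv_cancel])
    rw [← mul_inv_eq_one, ← inv_pow, ← mul_pow, ← hz, ← pow_comp_hom,
      show z ^ d = 1 by rw [← Category.comp_id z, ← MonObj.comp_pow, hN, MonObj.comp_one], MonObj.one_comp])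
  refine ⟨ψ, isMonHom_of_points ψ fun U a b => ?_, hψ, hgc.cancel ?_⟩
  · obtain ⟨U', e, x, y, he, hx, hy⟩ := hgc.exists_lift₂ a b
    refine he.cancel ?_
    rw [← Category.assoc, MonObj.comp_mul, ← hx, ← hy, ← MonObj.mul_comp, Category.assoc, hψ,
      MonObj.comp_mul, ← Category.assoc e, ← Category.assoc e, ← hx, ← hy, Category.assoc, Category.assoc, hψ]
    simp only [MonObj.comp_pow, Category.comp_id, mul_pow]
  · rw [← Category.assoc, hψ, pow_comp_hom, Category.id_comp, MonObj.comp_pow, Category.comp_id]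

/-- A finite type scheme over a field receiving a surjection from a finite one is finite. -/
theorem isFinite_of_surjective {N R : Sch} [IsFinite N.hom] [LocallyOfFiniteType R.hom] [QuasiCompact R.hom]
    (θ : N ⟶ R) [Surjective θ.left] : IsFinite R.hom := by
  haveI : Finite N.left := by
    haveI : CompactSpace N.left := QuasiCompact.compactSpace_of_compactSpace N.hom
    haveI : DiscreteTopology N.left := by
      have h := (N.hom.isDiscrete_preimage_singleton (default : Spec (CommRingCat.of k)))
      rw [show N.hom.base ⁻¹' {default} = Set.univ from Set.eq_univ_of_forall fun z => Subsingleton.elim (α := ↥(Spec (CommRingCat.of k))) _ _] at h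
      exact isDiscrete_univ_iff.1 h
    exact finite_of_compact_of_discrete
  haveI : Finite R.left := Finite.of_surjective θ.left.base θ.left.surjective
  haveI : LocallyQuasiFinite R.hom := .of_finite_preimage_singleton _ fun _ => Set.toFinite _
  haveI : IsLocallyArtinian (Spec (CommRingCat.of k)) :=
    Scheme.isLocallyArtinianScheme_Spec.2 (inferInstanceAs (IsArtinianRing k))
  exact IsFinite.of_locallyQuasiFinite _

end Groth.SemiAb
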