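import Groth.Agent.AlgGrpIsog.TorusIsog
import Groth.Agent.AlgGrp1.TorusSplit
import Groth.Agent.AlgGrp1.Translate
import Groth.Agent.AlgGrp1.BorelExist
import Groth.Agent.AlgGrp1.GenSubgroup

/-!
Connected subgroups of tori are tori; a nontrivial torus has nontrivial `n`-torsion; groups whose unit is an
isolated point are finite.
-/

set_option autoImplicit false
set_option linter.style.haveILetI false
universe u

open CategoryTheory CategoryTheory.Limits MonoidalCategory CartesianMonoidalCategory MonObj GrpObj AlgebraicGeometry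
open Groth.AlgGrp1

noncomputable section

namespace Groth.SemiAb

variable {k : Type u} [Field k] [IsAlgClosed k]

local notation "Sch" => Over (Spec (CommRingCat.of k))

/-- A smooth connected affine commutative group embedding into a torus is a torus. -/
theorem isTorus_of_mono {W T : Sch} [GrpObj W] [GrpObj T] [IsCommMonObj W] [IsAffine W.left] [Smooth W.hom]
    [ConnectedSpace W.left] (hT : Red.IsTorus T) (f : W ⟶ T) [IsMonHom f] [Mono f] : Red.IsTorus W := by
  haveI : QuasiCompact W.hom := inferInstance
  haveI : AlgebraicGeometry.IsReduced W.left := isReduced_of_smooth W.hom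
  obtain ⟨S, _, iS, π, hiS, hπ, hret, hci, hS, habs⟩ := exists_torus_absorbing' W
    ⟨1, fun X => by
      rw [derivedSeries_one, eq_bot_iff, commutator_def, Subgroup.commutator_le]
      intro p _ q _
      rw [Subgroup.mem_bot, commutatorElement_eq_one_iff_mul_comm]
      exact _root_.mul_comm p q⟩
  haveI := hiS; haveI := hπ; haveI := hci
  haveI : IsMonHom (π ≫ iS) := inferInstanceAs (IsMonHom (_ ≫ _))
  let q : W ⟶ W := 𝟙 W * (π ≫ iS)⁻¹
  haveI : IsMonHom q := isMonHom_of_points q fun T u v => by
    simp only [q, MonObj.comp_mul, GrpObj.comp_inv, Category.comp_id, MonObj.mul_comp]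
    rw [_root_.mul_inv, _root_.mul_mul_mul_comm]
  have hqπ : q ≫ π = 1 := by
    simp only [q, MonObj.mul_comp, GrpObj.inv_comp, Category.id_comp, Category.assoc, hret, Category.comp_id,
      mul_inv_cancel]
  obtain ⟨Q, _, c, g, hc, hcc, hg, hlft, hqc, hfl, hsur, hgc⟩ := exists_image_hom q
  haveI := hc; haveI := hcc; haveI := hg; haveI := hlft; haveI := hqc; haveI := hfl; haveI := hsur
  haveI : Smooth Q.hom := smooth_of_flat_surjective_hom g
  haveI : ConnectedSpace Q.left := connectedSpace_of_surjective g
  haveI : AlgebraicGeometry.IsReduced Q.left := isReduced_of_smooth Q.hom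
  haveI : IsAffine Q.left := isAffine_of_isAffineHom c.left
  haveI : Mono c := Over.mono_of_mono_left c
  have hcπ : c ≫ π = 1 := by
    refine (isCover g).cancel ?_
    rw [← Category.assoc, hgc, hqπ, MonObj.comp_one]
  have hQ : Red.HasNoSubtorus k Q := by
    intro T' _ j _ hj hT'
    haveI : IsMonHom (j ≫ c) := inferInstanceAs (IsMonHom (_ ≫ _))
    obtain ⟨b, w, hw⟩ := habs T' (j ≫ c) hT'
    have hconj : AGF.conjBy b (j ≫ c) = j ≫ c := by
      unfold AGF.conjBy
      rw [_root_.mul_comm (toUnit T' ≫ b) (j ≫ c), mul_inv_cancel_right]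
    rw [hconj] at hw
    have hw1 : w = 1 := by
      have := congrArg (· ≫ π) hw
      simpa only [Category.assoc, hret, Category.comp_id, hcπ, MonObj.comp_one] using this
    have hj1 : j ≫ c = 1 := by rw [← hw, hw1, MonObj.one_comp]
    have hj2 : j = 1 := by rw [← cancel_mono c, hj1, MonObj.one_comp]
    have h3 : 𝟙 T' = 1 := by
      haveI := hj
      haveI : Mono j := Over.mono_of_mono_left j
      rw [← cancel_mono j, MonObj.one_comp, Category.id_comp, hj2]
    show IsIso T'.hom
    refine ⟨η[T'].left, ?_, Over.w η[T']⟩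
    exact (congrArg CommaMorphism.left h3).symm
  haveI : IsMonHom (c ≫ f) := inferInstanceAs (IsMonHom (_ ≫ _))
  have hcf : c ≫ f = 1 := Groth.AlgGrpIsog.hom_torus_eq_one (Groth.URad.isUnip_of_hasNoSubtorus Q hQ) hT _
  have hc1 : c = 1 := by rw [← cancel_mono f, hcf, MonObj.one_comp]
  have hq1 : q = 1 := by rw [← hgc, hc1, MonObj.comp_one]
  have hid : π ≫ iS = 𝟙 W := (mul_inv_eq_one.1 hq1).symm
  exact isTorus_of_iso ⟨iS, π, hret, hid⟩ hiS hS

/-- A nontrivial torus over an algebraically closed field has a nontrivial point killed by `n ≥ 2`. -/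
theorem subsingleton_of_torsionFree {T : Sch} [GrpObj T] (hT : Red.IsTorus T) {n : ℕ} (hn : 2 ≤ n)
    (h : ∀ (Y : Sch) (y : Y ⟶ T), y ^ n = 1 → y = 1) : Subsingleton T.left := by
  obtain ⟨r, e, he⟩ := exists_diag_iso_of_isTorus hT
  haveI := he
  haveI : IsMonHom e.inv := Groth.URad.isMonHom_inv e
  rcases Nat.eq_zero_or_pos r with rfl | hr
  · have hb : Function.Bijective (algebraMap k (MonoidAlgebra k (Multiplicative (Fin 0 → ℤ)))) := by
      refine ⟨(algebraMap k _).injective, fun z ↦ ?_⟩
      induction z using MonoidAlgebra.induction_on with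
      | of m =>
        refine ⟨1, ?_⟩
        rw [Subsingleton.elim m 1]
        exact map_one _
      | add a b ha hb =>
        obtain ⟨a, rfl⟩ := ha
        obtain ⟨b, rfl⟩ := hb
        exact ⟨a + b, map_add _ _ _⟩
      | smul r a ha =>
        obtain ⟨a, rfl⟩ := ha
        exact ⟨r * a, (map_mul _ _ _).trans (Algebra.smul_def _ _).symm⟩
    let E := RingEquiv.ofBijective _ hb
    haveI : Subsingleton (PrimeSpectrum (MonoidAlgebra k (Multiplicative (Fin 0 → ℤ)))) :=
      (PrimeSpectrum.comapEquiv E).symm.injective.subsingleton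
    haveI : Subsingleton ↥(CoactBr.sp k (MonoidAlgebra k (Multiplicative (Fin 0 → ℤ)))).left :=
      inferInstanceAs (Subsingleton (PrimeSpectrum (MonoidAlgebra k (Multiplicative (Fin 0 → ℤ)))))
    haveI : IsIso e.inv.left := inferInstanceAs (IsIso ((Over.forget _).map e.inv))
    exact e.inv.left.homeomorph.injective.subsingleton
  · exfalso
    let P : Polynomial k := Polynomial.X ^ n - 1
    let R := AdjoinRoot P
    let x : R := AdjoinRoot.root P
    have hx : x ^ n = 1 := by
      have := AdjoinRoot.eval₂_root P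
      simpa [P, sub_eq_zero, x] using this
    let U : Rˣ := Units.ofPowEqOne x n hx (by omega)
    let i₀ : Fin r := ⟨0, hr⟩
    let χ : Multiplicative (Fin r → ℤ) →* Rˣ :=
      { toFun := fun v ↦ U ^ (Multiplicative.toAdd v i₀)
        map_one' := by simp
        map_mul' := fun a b ↦ by simp [zpow_add] }
    let ρ : (Multiplicative (Fin r → ℤ) →* Rˣ) →
        (CoactBr.sp k R ⟶ CoactBr.sp k (MonoidAlgebra k (Multiplicative (Fin r → ℤ)))) := fun ψ =>
      CoactBr.pt (MonoidAlgebra.lift k R (Multiplicative (Fin r → ℤ)) ((Units.coeHom R).comp ψ))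
    have hρ1 : ρ 1 = 1 := by
      simp only [ρ, CoactBr.one_eq_pt]
      congr 1
      refine MonoidAlgebra.algHom_ext (fun m => ?_) (Subsingleton.elim _ _)
      simp [Algebra.ofId_apply]
    have hρmul : ∀ ψ ψ', ρ (ψ * ψ') = ρ ψ * ρ ψ' := fun ψ ψ' => by
      simp only [ρ, CoactBr.pt_mul_pt]
      congr 1
      refine MonoidAlgebra.algHom_ext (fun m => ?_) (Subsingleton.elim _ _)
      simp
    have hρn : ∀ m, ρ (χ ^ m) = ρ χ ^ m := fun m => by
      induction m with
      | zero => rw [pow_zero, pow_zero, hρ1]
      | succ m ih => rw [pow_succ, pow_succ, hρmul, ih]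
    have hχ : χ ^ n = 1 := by
      refine MonoidHom.ext fun v => ?_
      show (U ^ (Multiplicative.toAdd v i₀)) ^ n = 1
      rw [← zpow_natCast, ← zpow_mul, mul_comm, zpow_mul, zpow_natCast,
        show U ^ n = 1 from Units.ext (by simpa [U] using hx), one_zpow]
    have h1 : ρ χ ≫ e.hom = 1 := h _ _ (by rw [← MonObj.pow_comp, ← hρn, hχ, hρ1, MonObj.one_comp])
    have h2 : ρ χ = ρ 1 := by
      rw [hρ1]
      have := congrArg (· ≫ e.inv) h1
      simpa only [Category.assoc, Iso.hom_inv_id, Category.comp_id, MonObj.one_comp] using this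
    have h3 := AlgHom.congr_fun (CoactBr.pt_injective h2) (MonoidAlgebra.single (Multiplicative.ofAdd (Pi.single i₀ 1)) 1)
    simp [χ, U] at h3
    have hmon : P.Monic := Polynomial.monic_X_pow_sub_C (1 : k) (by omega)
    have h4 : P ∣ Polynomial.X - 1 := by
      rw [← AdjoinRoot.mk_eq_zero]
      simp [x, h3] at *
    have h5 := Polynomial.natDegree_le_of_dvd h4 (Polynomial.X_sub_C_ne_zero (1 : k))
    rw [show P.natDegree = n from Polynomial.natDegree_X_pow_sub_C,
      show (Polynomial.X - 1 : Polynomial k).natDegree = 1 from Polynomial.natDegree_X_sub_C 1] at h5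
    omega

/-- A group of finite type whose unit is an open point is finite. -/
theorem isFinite_of_isOpen_unit (M : Sch) [GrpObj M] [LocallyOfFiniteType M.hom] [QuasiCompact M.hom]
    (h : IsOpen {η[M].left.base (IsLocalRing.closedPoint k)}) : IsFinite M.hom := by
  haveI := LocallyOfFiniteType.jacobsonSpace M.hom
  haveI : CompactSpace M.left := QuasiCompact.compactSpace_of_compactSpace M.hom
  set e := η[M].left.base (IsLocalRing.closedPoint k)
  have he : IsClosed ({e} : Set M.left) := by
    haveI := isSeparated_grpObj M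
    haveI : IsClosedImmersion η[M].left := isClosedImmersion_of_comp_eq_id M.hom η[M].left (Over.w η[M])
    have := η[M].left.isClosedEmbedding.isClosed_range
    rwa [Set.range_eq_singleton (fun t => congrArg η[M].left.base (Subsingleton.elim (α := ↥(Spec (CommRingCat.of k))) t _))] at this
  have hopen : ∀ x : M.left, IsClosed ({x} : Set M.left) → IsOpen ({x} : Set M.left) := fun x hx => by
    obtain ⟨φ, hφ⟩ := exists_translation M e x he hx
    haveI : IsIso φ.hom.left := inferInstanceAs (IsIso ((Over.forget _).map φ.hom))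
    have := φ.hom.left.homeomorph.isOpenMap _ h
    rw [Set.image_singleton] at this
    exact hφ ▸ this
  have hall : ∀ x : M.left, IsClosed ({x} : Set M.left) := fun x => by
    by_contra hx
    have hU : IsOpen (closedPoints M.left) := by
      rw [← Set.biUnion_of_singleton (closedPoints M.left)]
      exact isOpen_biUnion fun y hy => hopen y hy
    obtain ⟨y, hy, hy'⟩ := nonempty_inter_closedPoints (Z := (closedPoints M.left)ᶜ) ⟨x, hx⟩ hU.isClosed_compl.isLocallyClosed
    exact hy hy'
  haveI : DiscreteTopology M.left := discreteTopology_iff_isOpen_singleton.2 fun x => hopen x (hall x)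
  haveI : Finite M.left := finite_of_compact_of_discrete
  haveI : LocallyQuasiFinite M.hom := .of_finite_preimage_singleton _ fun _ => Set.toFinite _
  haveI : IsLocallyArtinian (Spec (CommRingCat.of k)) :=
    Scheme.isLocallyArtinianScheme_Spec.2 (inferInstanceAs (IsArtinianRing k))
  exact IsFinite.of_locallyQuasiFinite _

end Groth.SemiAb
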